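import Cfsg.Agent.Char.Values
import Cfsg.Agent.Char.Galois
import Cfsg.Agent.Char.Kernel
import Mathlib.Data.Nat.Choose.Factorization
import Mathlib.Algebra.CharP.Lemmas

/-!
# Schur's bound for p-groups with a faithful rational character
-/

set_option autoImplicit false
set_option linter.style.haveILetI false

namespace CfsgLib.LinearPBound

open CfsgLib.Char

universe u

variable {R : Type u} [Group R] [Finite R]

theorem multiset_sum_pow_prime {p : ℕ} (hp : p.Prime) :
    ∀ s : Multiset ℂ, (∀ z ∈ s, IsIntegral ℤ z) →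
      ∃ w : ℂ, IsIntegral ℤ w ∧ s.sum ^ p = (s.map (· ^ p)).sum + p * w := by
  intro s
  induction s using Multiset.induction with
  | empty =>
    intro _
    exact ⟨0, isIntegral_zero, by simp [hp.ne_zero]⟩
  | cons a t ih =>
    intro h
    obtain ⟨w, hw, ht⟩ := ih fun z hz => h z (Multiset.mem_cons_of_mem hz)
    have ha : a ∈ integralClosure ℤ ℂ := h a (Multiset.mem_cons_self a t)
    have hs : t.sum ∈ integralClosure ℤ ℂ :=
      Subalgebra.multiset_sum_mem _ fun z hz => h z (Multiset.mem_cons_of_mem hz)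
    obtain ⟨r, hr⟩ := exists_add_pow_prime_eq hp (⟨a, ha⟩ : integralClosure ℤ ℂ) ⟨t.sum, hs⟩
    refine ⟨w + a * t.sum * (r : ℂ), hw.add (((show IsIntegral ℤ a from ha).mul hs).mul r.2), ?_⟩
    have h1 := congrArg Subtype.val hr
    push_cast at h1
    rw [Multiset.sum_cons, Multiset.map_cons, Multiset.sum_cons, h1, ht]
    ring

/-- An integral rational character is congruent to its degree at a `p`-element. -/
theorem dvd_sub_apply {p : ℕ} (hp : p.Prime) {χ : R → ℂ} (hχ : Cfsg.IsCharacter R χ) {n : ℕ}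
    (hn : χ 1 = n) (val : R → ℤ) (hval : ∀ g, χ g = val g) :
    ∀ (a : ℕ) (g : R), g ^ p ^ a = 1 → (p : ℤ) ∣ (n : ℤ) - val g := by
  intro a
  induction a with
  | zero =>
    intro g hg
    rw [pow_zero, pow_one] at hg
    subst hg
    have : val 1 = n := by exact_mod_cast (hval 1).symm.trans hn
    rw [this, sub_self]; exact dvd_zero _
  | succ a ih =>
    intro g hg
    have h1 := ih (g ^ p) (by rw [← pow_mul, ← pow_succ', hg])
    obtain ⟨s, -, hs, hk⟩ := IsCharacter.exists_roots hχ g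
    obtain ⟨w, hw, hpow⟩ := multiset_sum_pow_prime hp s fun z hz =>
      isIntegral_of_pow_eq_one (orderOf_pos g) (hs z hz)
    have e1 : s.sum = val g := by
      have := hk 1
      rw [pow_one, hval] at this
      simpa using this.symm
    have e2 : (s.map (· ^ p)).sum = val (g ^ p) := by rw [← hval, hk]
    rw [e1, e2] at hpow
    have h2 : (p : ℤ) ∣ val g ^ p - val (g ^ p) := by
      obtain ⟨k, hkk, -⟩ : ∃ k : ℤ, (w : ℂ) = k ∧ True := by
        have hq : w = (((val g ^ p - val (g ^ p) : ℤ) : ℚ) / (p : ℚ) : ℚ) := by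
          push_cast
          rw [eq_div_iff (by exact_mod_cast hp.ne_zero), hpow]; ring
        obtain ⟨r, hr⟩ : ∃ r : ℚ, w = (r : ℂ) := ⟨_, hq⟩
        have hint : IsIntegral ℤ r := (isIntegral_algebraMap_iff (algebraMap ℚ ℂ).injective).mp
          (by rw [show algebraMap ℚ ℂ r = (r : ℂ) from rfl, ← hr]; exact hw)
        obtain ⟨m, hm⟩ := IsIntegrallyClosed.isIntegral_iff.mp hint
        exact ⟨m, by rw [hr, ← hm]; simp, trivial⟩
      rw [hkk] at hpow
      refine ⟨k, ?_⟩
      have : val g ^ p = val (g ^ p) + p * k := by exact_mod_cast hpow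
      linarith
    have h3 : (p : ℤ) ∣ val g ^ p - val g := by
      haveI := Fact.mk hp
      rw [← ZMod.intCast_zmod_eq_zero_iff_dvd]
      push_cast
      rw [ZMod.pow_card, sub_self]
    have := dvd_add h1 (dvd_sub h3 h2)
    rw [show (n : ℤ) - val g =
      (n : ℤ) - val (g ^ p) + (val g ^ p - val g - (val g ^ p - val (g ^ p))) by ring]
    exact this

/-- The lower bound for a rational character at a nontrivial `p`-element. -/
theorem sub_apply_le {p : ℕ} (hp : p.Prime) {χ : R → ℂ} (hχ : Cfsg.IsCharacter R χ) {n : ℕ}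
    (hn : χ 1 = n) (val : R → ℤ) (hval : ∀ g, χ g = val g)
    (hrat : ∀ (g : R) (t : ℕ), t.Coprime (Nat.card R) → χ (g ^ t) = χ g)
    (hR : IsPGroup p R) {g : R} (hg : g ≠ 1) :
    ((n : ℤ) - val g) * (p - 1 : ℤ) ≤ p * n := by
  classical
  obtain ⟨a, ha⟩ := hR g
  obtain ⟨b, -, hb⟩ := (Nat.dvd_prime_pow hp).1 (orderOf_dvd_of_pow_eq_one ha)
  rcases b with _ | b
  · rw [pow_zero] at hb
    exact absurd (orderOf_eq_one_iff.1 hb) hg
  have hd0 : 0 < p ^ b := pow_pos hp.pos b
  haveI := Fintype.ofFinite R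
  obtain ⟨F, hF⟩ : ∃ F : ℕ → ℂ, ∀ i, F i = χ (g ^ i) := ⟨_, fun _ => rfl⟩
  have hsub : ∀ x : R, ∀ d : ℕ, orderOf x = d →
      ∃ m : ℕ, ∑ i ∈ Finset.range d, χ (x ^ i) = (d : ℂ) * m := by
    intro x d hxd
    haveI := Fintype.ofFinite (Subgroup.zpowers x)
    obtain ⟨m, hm⟩ := IsCharacter.exists_classInner_eq_natCast
      (IsCharacter.restrict hχ (Subgroup.zpowers x)) isIrrCharacter_one
    refine ⟨m, ?_⟩
    rw [classInner_def] at hm
    simp only [map_one, mul_one] at hm
    rw [Nat.card_zpowers, hxd] at hm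
    have hd : (d : ℂ) ≠ 0 := by
      rw [← hxd]; exact_mod_cast (orderOf_pos x).ne'
    rw [← hm, mul_inv_cancel_left₀ hd, Finset.sum_range]
    subst hxd
    exact Fintype.sum_equiv (finEquivZPowers (isOfFinOrder_of_finite x)) _ _ (fun i => rfl)
  obtain ⟨A, hA⟩ := hsub g _ hb
  have hgp : orderOf (g ^ p) = p ^ b := by
    rw [orderOf_pow, hb, pow_succ, Nat.gcd_eq_right (dvd_mul_left p (p ^ b)),
      Nat.mul_div_cancel _ hp.pos]
  obtain ⟨B, hB⟩ := hsub (g ^ p) _ hgp
  have hcopcard : ∀ i : ℕ, ¬ p ∣ i → i.Coprime (Nat.card R) := fun i hi => by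
    haveI := Fact.mk hp
    obtain ⟨k, hk⟩ := IsPGroup.iff_card.1 hR
    rw [hk]
    exact ((hp.coprime_iff_not_dvd.2 hi).symm).pow_right k
  have hsplit : ∑ i ∈ Finset.range (p ^ (b + 1)), χ (g ^ i) =
      (∑ j ∈ Finset.range (p ^ b), χ ((g ^ p) ^ j)) +
        (((p ^ (b + 1) : ℕ) : ℂ) - ((p ^ b : ℕ) : ℂ)) * χ g := by
    rw [← Finset.sum_filter_add_sum_filter_not (Finset.range (p ^ (b + 1))) (fun i => p ∣ i)]
    have hdiv : (Finset.range (p ^ (b + 1))).filter (fun i => p ∣ i) =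
        (Finset.range (p ^ b)).image (fun j => p * j) := by
      ext i
      simp only [Finset.mem_filter, Finset.mem_range, Finset.mem_image]
      constructor
      · rintro ⟨hi, j, rfl⟩
        exact ⟨j, Nat.lt_of_mul_lt_mul_left (by rwa [← pow_succ']), rfl⟩
      · rintro ⟨j, hj, rfl⟩
        exact ⟨by rw [pow_succ']; exact (Nat.mul_lt_mul_left hp.pos).2 hj, dvd_mul_right p j⟩
    have hinj : Set.InjOn (fun j => p * j) (Finset.range (p ^ b)) :=
      fun x _ y _ h => Nat.eq_of_mul_eq_mul_left hp.pos h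
    congr 1
    · rw [hdiv, Finset.sum_image hinj]
      exact Finset.sum_congr rfl fun j _ => by rw [pow_mul]
    · rw [Finset.sum_congr rfl fun i hi => hrat g i (hcopcard i (Finset.mem_filter.1 hi).2),
        Finset.sum_const, nsmul_eq_mul]
      congr 1
      have h1 := Finset.card_filter_add_card_filter_not (s := Finset.range (p ^ (b + 1)))
        (fun i => p ∣ i)
      rw [hdiv, Finset.card_image_of_injOn hinj, Finset.card_range, Finset.card_range] at h1
      rw [eq_sub_iff_add_eq', ← Nat.cast_add, h1]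
  rw [hA, hB, hval] at hsplit
  have hB' : B ≤ n := by
    have h1 : ‖∑ j ∈ Finset.range (p ^ b), χ ((g ^ p) ^ j)‖ ≤ (p ^ b : ℕ) * (n : ℝ) := by
      refine (norm_sum_le _ _).trans ((Finset.sum_le_card_nsmul _ _ (n : ℝ) fun j _ => ?_).trans ?_)
      · have := IsCharacter.norm_apply_le hχ ((g ^ p) ^ j)
        rwa [hn, Complex.natCast_re] at this
      · rw [Finset.card_range, nsmul_eq_mul]
    rw [hB, norm_mul, Complex.norm_natCast, Complex.norm_natCast] at h1
    exact_mod_cast le_of_mul_le_mul_left h1 (by exact_mod_cast hd0)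
  have key : (p : ℤ) ^ b * (p * A) = (p : ℤ) ^ b * (B + (p - 1) * val g) := by
    have : ((p : ℤ) ^ (b + 1)) * A = (p : ℤ) ^ b * B + ((p : ℤ) ^ (b + 1) - (p : ℤ) ^ b) * val g := by
      push_cast at hsplit
      exact_mod_cast hsplit
    linear_combination this
  have key' := mul_left_cancel₀ (by exact_mod_cast hd0.ne') key
  have hpA : 0 ≤ (p : ℤ) * A := by positivity
  have hBn : (B : ℤ) ≤ n := by exact_mod_cast hB'
  nlinarith

/-- Blichfeldt's divisibility. -/
theorem card_dvd_prod {χ : R → ℂ} (hχ : Cfsg.IsCharacter R χ) {n : ℕ} (hn : χ 1 = n)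
    (val : R → ℤ) (hval : ∀ g, χ g = val g) (S : Finset ℤ)
    (hS : ∀ g : R, g ≠ 1 → val g ∈ S) :
    (Nat.card R : ℤ) ∣ ∏ v ∈ S, ((n : ℤ) - v) := by
  classical
  haveI := Fintype.ofFinite R
  have key : ∀ (S : Finset ℤ) (ψ : R → ℂ), Cfsg.IsCharacter R ψ →
      ∃ m : ℤ, ∑ g : R, ψ g * ∏ v ∈ S, ((val g : ℂ) - v) = (Nat.card R : ℂ) * m := by
    intro S
    induction S using Finset.induction_on with
    | empty =>
      intro ψ hψ
      obtain ⟨m, hm⟩ := IsCharacter.exists_classInner_eq_natCast hψ isIrrCharacter_one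
      refine ⟨m, ?_⟩
      rw [classInner_def] at hm
      simp only [map_one, mul_one] at hm
      simp only [Finset.prod_empty, mul_one]
      rw [show (((m : ℕ) : ℤ) : ℂ) = (m : ℂ) from Int.cast_natCast m, ← hm,
        mul_inv_cancel_left₀ (by exact_mod_cast Nat.card_pos.ne')]
    | insert a t ha ih =>
      intro ψ hψ
      obtain ⟨m₁, h₁⟩ := ih (ψ * χ) (IsCharacter.mul hψ hχ)
      obtain ⟨m₂, h₂⟩ := ih ψ hψ
      refine ⟨m₁ - a * m₂, ?_⟩
      push_cast
      rw [mul_sub, mul_left_comm, ← h₁, ← h₂, Finset.mul_sum, ← Finset.sum_sub_distrib]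
      refine Finset.sum_congr rfl fun g _ => ?_
      rw [Finset.prod_insert ha, Pi.mul_apply, hval]
      ring
  obtain ⟨m, hm⟩ := key S (fun _ => 1) isCharacter_one
  rw [Finset.sum_eq_single (1 : R) (fun g _ hg => by
    rw [Finset.prod_eq_zero (i := val g) (hS g hg) (sub_self (val g : ℂ)), mul_zero]) (by simp), one_mul] at hm
  have hn1 : val 1 = n := by exact_mod_cast (hval 1).symm.trans hn
  rw [hn1] at hm
  push_cast at hm
  exact ⟨m, by exact_mod_cast hm⟩

/-- **Schur's bound.** -/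
theorem card_factorization_le {p : ℕ} (hp : p.Prime) (hR : IsPGroup p R) {χ : R → ℂ}
    (hχ : Cfsg.IsCharacter R χ) (hfaith : ∀ g, χ g = χ 1 → g = 1) {n : ℕ} (hn : χ 1 = n)
    (hrat : ∀ (g : R) (t : ℕ), t.Coprime (Nat.card R) → χ (g ^ t) = χ g) :
    (Nat.card R).factorization p ≤
      ∑ i ∈ Finset.range (n + 1), n / ((p - 1) * p ^ i) := by
  classical
  haveI := Fintype.ofFinite R
  have hint : ∀ g, ∃ m : ℤ, χ g = m := fun g => IsCharacter.exists_int_apply hχ (hrat g)
  choose val hval using hint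
  obtain ⟨K, hK⟩ : ∃ K, K = n / (p - 1) := ⟨_, rfl⟩
  obtain ⟨S, hS⟩ : ∃ S : Finset ℤ, S = (Finset.univ.filter fun g : R => g ≠ 1).image val := ⟨_, rfl⟩
  have hdvd := card_dvd_prod hχ hn val hval S fun g hg => hS ▸
    Finset.mem_image_of_mem _ (Finset.mem_filter.2 ⟨Finset.mem_univ g, hg⟩)
  have hk : ∀ v ∈ S, ∃ k : ℕ, 1 ≤ k ∧ k ≤ K ∧ (n : ℤ) - v = p * k := by
    intro v hv
    rw [hS, Finset.mem_image] at hv
    obtain ⟨g, hg, rfl⟩ := hv
    have hg1 := (Finset.mem_filter.1 hg).2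
    obtain ⟨a, ha⟩ := hR g
    obtain ⟨k, hk⟩ := dvd_sub_apply hp hχ hn val hval a g ha
    have hlt : val g < (n : ℤ) := by
      have h1 := IsCharacter.norm_apply_le hχ g
      rw [hn, Complex.natCast_re, hval] at h1
      rw [Complex.norm_intCast] at h1
      have h2 : val g ≤ n := by exact_mod_cast (le_abs_self _).trans h1
      rcases h2.lt_or_eq with h | h
      · exact h
      · exact absurd (hfaith g (by rw [hn, hval, h, Int.cast_natCast])) hg1
    have hb := sub_apply_le hp hχ hn val hval hrat hR hg1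
    rw [hk, mul_assoc] at hb
    have hp0 : (0 : ℤ) < p := by exact_mod_cast hp.pos
    have hb' := le_of_mul_le_mul_left hb hp0
    have hk0 : 0 < k := pos_of_mul_pos_right (a := (p : ℤ)) (by rw [← hk]; linarith) hp0.le
    obtain ⟨k', rfl⟩ := Int.eq_ofNat_of_zero_le hk0.le
    refine ⟨k', by omega, ?_, hk⟩
    rw [hK, Nat.le_div_iff_mul_le (by have := hp.two_le; omega)]
    have hcast : ((p - 1 : ℕ) : ℤ) = (p : ℤ) - 1 := by
      rw [Nat.cast_sub hp.one_le, Nat.cast_one]
    rw [← hcast] at hb'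
    exact_mod_cast hb'
  choose! kf hk1 hk2 hk3 using hk
  obtain ⟨Ks, hKs⟩ : ∃ Ks, Ks = S.image kf := ⟨_, rfl⟩
  have hinj : Set.InjOn kf S := fun x hx y hy h => by
    have h1 := hk3 x hx
    have h2 := hk3 y hy
    rw [h] at h1
    linarith
  have hprod : ∏ v ∈ S, ((n : ℤ) - v) = ((∏ k ∈ Ks, p * k : ℕ) : ℤ) := by
    rw [hKs, Finset.prod_image hinj, Nat.cast_prod]
    exact Finset.prod_congr rfl fun v hv => by rw [hk3 v hv]; push_cast; rfl
  rw [hprod, Int.natCast_dvd_natCast] at hdvd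
  have hsub : Ks ⊆ Finset.Icc 1 K := fun k hk => by
    rw [hKs, Finset.mem_image] at hk
    obtain ⟨v, hv, rfl⟩ := hk
    exact Finset.mem_Icc.2 ⟨hk1 v hv, hk2 v hv⟩
  have hbig : Nat.card R ∣ p ^ K * K.factorial := by
    refine hdvd.trans ((Finset.prod_dvd_prod_of_subset _ _ _ hsub).trans (dvd_of_eq ?_))
    rw [Finset.prod_mul_distrib, Finset.prod_const, Nat.card_Icc, Nat.add_sub_cancel]
    congr 1
    exact (Finset.prod_Ico_id_eq_factorial K ▸ rfl)
  have h1 := (Nat.factorization_le_iff_dvd Nat.card_pos.ne'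
    (mul_ne_zero (pow_ne_zero _ hp.ne_zero) K.factorial_ne_zero)).2 hbig p
  rw [Nat.factorization_mul (pow_ne_zero _ hp.ne_zero) K.factorial_ne_zero, Finsupp.add_apply,
    Nat.Prime.factorization_pow hp, Finsupp.single_eq_same] at h1
  refine h1.trans ?_
  haveI := Fact.mk hp
  have hlog : Nat.log p K < n + 1 := by
    have := Nat.log_le_self p K
    have := Nat.div_le_self n (p - 1)
    omega
  rw [Nat.factorization_factorial hp (b := n + 1) hlog]
  rw [Finset.range_eq_Ico, Finset.sum_eq_sum_Ico_succ_bot (by omega : 0 < n + 1)]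
  simp only [pow_zero, mul_one, Nat.zero_add, ← hK]
  refine Nat.add_le_add_left (le_of_eq (Finset.sum_congr rfl fun i _ => ?_)) _
  rw [hK, Nat.div_div_eq_div_mul]

end CfsgLib.LinearPBound
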