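import Cfsg.Agent.Char.CliffordCorrespondence
import Cfsg.Agent.Char.ExtendInv
import Cfsg.Agent.Char.GaloisTwist
import Cfsg.Agent.Char.Galois
import Cfsg.Agent.Char.Kernel
import Cfsg.Agent.LinearPBound.Schur

/-!
# Galois-fixed extensions of invariant characters across a coprime normal subgroup
-/

set_option autoImplicit false
set_option linter.style.haveILetI false

namespace CfsgLib.LinearPBound

open CfsgLib.Char

universe u

section

variable {Γ : Type u} [Group Γ] [Finite Γ]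

/-- `σ` fixes the roots of unity of order dividing `n`. -/
def FixesRoots (n : ℕ) (σ : ℂ ≃+* ℂ) : Prop := ∀ z : ℂ, z ^ n = 1 → σ z = z

theorem fixed_char {H : Type u} [Group H] [Finite H] {n : ℕ} (hn : Nat.card H = n) {σ : ℂ ≃+* ℂ}
    (hσ : FixesRoots n σ) {ψ : H → ℂ} (hψ : Cfsg.IsCharacter H ψ) (h : H) : σ (ψ h) = ψ h := by
  have h1 := IsCharacter.map_eq_pow_card hψ σ (t := 1)
    (fun z hz => by rw [pow_one]; exact hσ z (by rwa [← hn])) h
  rwa [pow_one] at h1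

/-- The canonical extension of an invariant irreducible character is Galois fixed. -/
theorem exists_fixed_extension_irr {N : Subgroup Γ} [hN : N.Normal] {θ : N → ℂ}
    (hθ : Cfsg.IsIrrCharacter N θ)
    (hinv : ∀ (g : Γ) (n : N), θ ⟨g * n * g⁻¹, hN.conj_mem (n : Γ) n.2 g⟩ = θ n)
    (hcop : Nat.Coprime (Nat.card N) N.index) :
    ∃ χ : Γ → ℂ, Cfsg.IsIrrCharacter Γ χ ∧ (∀ n : N, χ n = θ n) ∧
      ∀ σ : ℂ ≃+* ℂ, FixesRoots (Nat.card N) σ → ∀ g, σ (χ g) = χ g := by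
  obtain ⟨η, hη, hηN⟩ := exists_extension_of_coprime hθ hinv hcop
  obtain ⟨d, hd0, hd⟩ := IsIrrCharacter.exists_degree hθ
  obtain ⟨D, hD, -⟩ := exists_detHom (IsIrrCharacter.isCharacter hη)
    (d := d) (by rw [← hd, ← hηN 1, OneMemClass.coe_one])
  obtain ⟨k, hk1, hk2⟩ : ∃ k, k ≡ 1 [MOD Nat.card N] ∧ k ≡ 0 [MOD N.index] :=
    ⟨_, (Nat.chineseRemainder hcop 1 0).2.1, (Nat.chineseRemainder hcop 1 0).2.2⟩
  obtain ⟨μ, hμ⟩ : ∃ μ : Γ → ℂ, μ = fun g => (((D ^ k) g : ℂˣ) : ℂ) := ⟨_, rfl⟩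
  have hμc : Cfsg.IsCharacter Γ μ ∧ μ 1 = 1 := by
    subst hμ
    exact ⟨isCharacter_ofHom _, by simp⟩
  have hμroot : ∀ g, μ g ^ Nat.card N = 1 := by
    intro g
    obtain ⟨j, hj⟩ := Nat.modEq_zero_iff_dvd.1 hk2
    rw [hμ]
    simp only [MonoidHom.pow_apply, Units.val_pow_eq_pow_val]
    rw [← pow_mul, hj, mul_assoc, mul_comm j, ← mul_assoc, mul_comm N.index,
      Subgroup.card_mul_index, pow_mul, ← Units.val_pow_eq_pow_val, ← map_pow, pow_card_eq_one',
      map_one, Units.val_one, one_pow]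
  have hμN : ∀ n : N, μ n = Cfsg.detChar θ n := by
    intro n
    rw [← detChar_comp (IsIrrCharacter.isCharacter hη) hηN n, hD, hμ]
    simp only [MonoidHom.pow_apply, ← map_pow]
    congr 2
    have h2 : n ^ k = n := by
      conv_rhs => rw [← pow_one n]
      exact pow_eq_pow_iff_modEq.2 (hk1.of_dvd (orderOf_dvd_natCard n))
    exact congrArg Subtype.val h2
  have hcopd : N.index.Coprime d :=
    hcop.symm.coprime_dvd_right (IsIrrCharacter.degree_dvd_card hθ hd)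
  obtain ⟨χ, ⟨hχ, hχN, hχdet⟩, huniq⟩ :=
    existsUnique_extension_det hθ hd hcopd ⟨η, hη, hηN⟩ μ hμc hμN
  refine ⟨χ, hχ, hχN, fun σ hσ g => ?_⟩
  refine congrFun (huniq (fun g => σ (χ g)) ⟨IsIrrCharacter.map_ringEquiv hχ σ,
    fun n => ?_, ?_⟩) g
  · show σ (χ n) = θ n
    rw [hχN]; exact fixed_char rfl hσ (IsIrrCharacter.isCharacter hθ) n
  · rw [detChar_map_ringEquiv (IsIrrCharacter.isCharacter hχ) σ, hχdet]
    exact funext fun g => hσ _ (hμroot g)

/-- A Galois-fixed character whose restriction is a conjugacy orbit sum. -/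
theorem exists_fixed_orbit [Fintype Γ] {N : Subgroup Γ} [hN : N.Normal] [Fintype N]
    {θ : N → ℂ} (hθ : Cfsg.IsIrrCharacter N θ) (hcop : Nat.Coprime (Nat.card N) N.index) :
    ∃ Φ : Γ → ℂ, Cfsg.IsCharacter Γ Φ ∧ (∀ n : N, Φ n = (∑ ψ ∈ conjOrbit θ, ψ) n) ∧
      ∀ σ : ℂ ≃+* ℂ, FixesRoots (Nat.card N) σ → ∀ g, σ (Φ g) = Φ g := by
  classical
  obtain ⟨T, hT⟩ : ∃ T, inertia θ = T := ⟨_, rfl⟩
  have hNT : N ≤ T := hT ▸ le_inertia (IsIrrCharacter.isClassFunction hθ)
  haveI := Fintype.ofFinite T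
  haveI := Fintype.ofFinite (N.subgroupOf T)
  have hcardN : Nat.card (N.subgroupOf T) = Nat.card N :=
    Nat.card_congr (Subgroup.subgroupOfEquivOfLe hNT).toEquiv
  obtain ⟨χ, hχ, hχN, hfix⟩ := exists_fixed_extension_irr (isIrrCharacter_pullBack hNT hθ)
    (fun t x => by
      have h1 := congrFun ((mem_inertia θ (t : Γ)).1 (hT.symm ▸ t.2))
        ⟨((x : T) : Γ), Subgroup.mem_subgroupOf.mp x.2⟩
      simp only [conjOn_apply] at h1
      simpa [pullBack] using h1)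
    (by
      rw [hcardN]
      exact hcop.coprime_dvd_right (Subgroup.relIndex_dvd_index_of_normal N T))
  have hres : (fun n : N => χ (Subgroup.inclusion hNT n)) = θ := funext fun n =>
    (hχN ⟨Subgroup.inclusion hNT n, Subgroup.mem_subgroupOf.2 n.2⟩).trans rfl
  have hc : Cfsg.classInner (fun n : N => χ (Subgroup.inclusion hNT n)) θ = 1 := by
    rw [hres, IsIrrCharacter.classInner_self hθ]
  obtain ⟨hirr, hmul⟩ := isIrrCharacter_indFun_of_inertia hNT hθ hT hχ
    (by rw [hc]; exact one_ne_zero)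
  rw [hc] at hmul
  refine ⟨Cfsg.indFun T χ, IsIrrCharacter.isCharacter hirr, fun n => ?_, fun σ hσ g => ?_⟩
  · have h1 := congrFun (restrict_eq_smul_sum hirr hθ (by rw [hmul]; exact one_ne_zero)) n
    rw [hmul, one_smul] at h1
    exact h1
  · have hσT : FixesRoots (Nat.card (N.subgroupOf T)) σ := by rwa [hcardN]
    simp only [Cfsg.indFun, map_mul, map_inv₀, map_natCast, map_sum]
    congr 1
    refine Finset.sum_congr rfl fun x _ => ?_
    by_cases hx : x⁻¹ * g * x ∈ T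
    · rw [extendByZero_of_mem _ hx]; exact hfix σ hσT _
    · rw [extendByZero_of_not_mem _ hx, map_zero]

/-- An invariant character has a Galois-fixed extension. -/
theorem exists_fixed_extension [Fintype Γ] {N : Subgroup Γ} [hN : N.Normal] [Fintype N]
    (hcop : Nat.Coprime (Nat.card N) N.index) :
    ∀ (d : ℕ) (χ : N → ℂ), Cfsg.IsCharacter N χ → χ 1 = d → (∀ g : Γ, conjOn g χ = χ) →
      ∃ Φ : Γ → ℂ, Cfsg.IsCharacter Γ Φ ∧ (∀ n : N, Φ n = χ n) ∧
        ∀ σ : ℂ ≃+* ℂ, FixesRoots (Nat.card N) σ → ∀ g, σ (Φ g) = Φ g := by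
  intro d
  induction d using Nat.strong_induction_on with
  | _ d ih =>
  intro χ hχ hd hinv
  classical
  by_cases h0 : χ = 0
  · exact ⟨0, isCharacter_zero, fun n => by rw [h0]; rfl, fun σ _ g => map_zero σ⟩
  obtain ⟨θ, hθ, hc⟩ := IsCharacter.exists_constituent hχ h0
  have hcoef : ∀ φ : N → ℂ, Cfsg.IsIrrCharacter N φ →
      ∃ k : ℕ, Cfsg.classInner χ φ = k ∧ (φ ∈ conjOrbit θ → 1 ≤ k) := by
    intro φ hφ
    obtain ⟨k, hk⟩ := IsCharacter.exists_classInner_eq_natCast hχ hφ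
    refine ⟨k, hk, fun hmem => Nat.pos_of_ne_zero fun hk0 => hc ?_⟩
    obtain ⟨g, rfl⟩ := mem_conjOrbit.1 hmem
    rw [← classInner_conjOn g χ θ, hinv, hk, hk0, Nat.cast_zero]
  choose! k hk hk1 using hcoef
  obtain ⟨χ', hχ'⟩ : ∃ χ' : N → ℂ, χ' = χ - ∑ ψ ∈ conjOrbit θ, ψ := ⟨_, rfl⟩
  have hsub : conjOrbit θ ⊆ irrFinset N := fun ψ hψ => by
    obtain ⟨g, rfl⟩ := mem_conjOrbit.1 hψ
    exact mem_irrFinset.2 (isIrrCharacter_conjOn hθ g)
  have hexp : χ' = ∑ φ ∈ irrFinset N, ((k φ - if φ ∈ conjOrbit θ then 1 else 0 : ℕ) : ℂ) • φ := by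
    rw [hχ']
    nth_rw 1 [eq_sum_irr (IsCharacter.isClassFunction hχ)]
    rw [show (∑ ψ ∈ conjOrbit θ, ψ) = ∑ φ ∈ irrFinset N, if φ ∈ conjOrbit θ then φ else 0 by
      rw [← Finset.sum_filter]
      exact Finset.sum_congr (Finset.ext fun x => by
        simp only [Finset.mem_filter]
        exact ⟨fun h => ⟨hsub h, h⟩, fun h => h.2⟩) fun _ _ => rfl, ← Finset.sum_sub_distrib]
    refine Finset.sum_congr rfl fun φ hφ => ?_
    rw [hk φ (mem_irrFinset.1 hφ)]
    by_cases hm : φ ∈ conjOrbit θ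
    · rw [if_pos hm, if_pos hm, Nat.cast_sub (hk1 φ (mem_irrFinset.1 hφ) hm), sub_smul,
        Nat.cast_one, one_smul]
    · rw [if_neg hm, if_neg hm, Nat.sub_zero, sub_zero]
  have hc' : Cfsg.IsCharacter N χ' := by
    rw [hexp]
    exact isCharacter_sum _ fun φ hφ =>
      IsCharacter.natCast_smul (IsIrrCharacter.isCharacter (mem_irrFinset.1 hφ)) _
  obtain ⟨d', hd'⟩ := IsCharacter.exists_degree hc'
  obtain ⟨f, hf0, hf⟩ := IsIrrCharacter.exists_degree hθ
  have hdd : d = d' + (conjOrbit θ).card * f := by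
    have h1 := congrFun hχ' 1
    rw [Pi.sub_apply, Finset.sum_apply, hd, hd', Finset.sum_congr rfl fun ψ hψ => show ψ 1 = (f : ℂ) by
      obtain ⟨g, rfl⟩ := mem_conjOrbit.1 hψ; rw [conjOn_apply_one, hf], Finset.sum_const,
      nsmul_eq_mul, eq_sub_iff_add_eq] at h1
    exact_mod_cast h1.symm
  have hlt : d' < d := by
    have : 0 < (conjOrbit θ).card * f :=
      Nat.mul_pos (Finset.card_pos.2 ⟨θ, self_mem_conjOrbit θ⟩) hf0
    omega
  have hinv' : ∀ g : Γ, conjOn g χ' = χ' := by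
    intro g
    funext n
    rw [hχ', conjOn_apply, Pi.sub_apply, Pi.sub_apply, ← conjOn_apply g χ n, hinv, Finset.sum_apply,
      Finset.sum_apply]
    congr 1
    refine Finset.sum_bij' (fun ψ _ => conjOn g ψ) (fun ψ _ => conjOn g⁻¹ ψ) ?_ ?_ ?_ ?_ ?_
    · intro ψ hψ
      obtain ⟨x, rfl⟩ := mem_conjOrbit.1 hψ
      exact mem_conjOrbit.2 ⟨x * g, conjOn_conjOn x g θ⟩
    · intro ψ hψ
      obtain ⟨x, rfl⟩ := mem_conjOrbit.1 hψ
      exact mem_conjOrbit.2 ⟨x * g⁻¹, conjOn_conjOn x g⁻¹ θ⟩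
    · intro ψ _; rw [conjOn_conjOn, mul_inv_cancel, conjOn_one]
    · intro ψ _; rw [conjOn_conjOn, inv_mul_cancel, conjOn_one]
    · intro ψ _; rfl
  obtain ⟨Φ', hΦ', hΦ'N, hfix'⟩ := ih d' hlt χ' hc' hd' hinv'
  obtain ⟨Φ₀, hΦ₀, hΦ₀N, hfix₀⟩ := exists_fixed_orbit hθ hcop
  refine ⟨Φ' + Φ₀, IsCharacter.add hΦ' hΦ₀, fun n => ?_, fun σ hσ g => ?_⟩
  · rw [Pi.add_apply, hΦ'N, hΦ₀N, hχ', Pi.sub_apply, sub_add_cancel]
  · rw [Pi.add_apply, map_add, hfix' σ hσ, hfix₀ σ hσ]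

end

/-- A `p`-group acting on a coprime linear group acts through a group obeying Schur's bound. -/
theorem index_centralizer_le {G : Type u} [Group G] [Finite G] {χ : G → ℂ}
    (hχ : Cfsg.IsCharacter G χ) (hfaith : ∀ g, χ g = χ 1 → g = 1) {n : ℕ} (hn : χ 1 = n)
    {p : ℕ} (hp : p.Prime) {Q R : Subgroup G} (hQ : ¬ p ∣ Nat.card Q) (hR : IsPGroup p R)
    (hnorm : R ≤ Subgroup.normalizer (Q : Set G)) :
    ((Subgroup.centralizer (Q : Set G)).subgroupOf R).index.factorization p ≤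
      ∑ i ∈ Finset.range (n + 1), n / ((p - 1) * p ^ i) := by
  classical
  haveI := Fintype.ofFinite G
  haveI := Fact.mk hp
  obtain ⟨M, hM⟩ : ∃ M, M = Q ⊔ R := ⟨_, rfl⟩
  haveI hQn : (Q.subgroupOf M).Normal :=
    Subgroup.normal_subgroupOf_of_le_normalizer (hM ▸ sup_le Subgroup.le_normalizer hnorm)
  have hQM : Q ≤ M := hM ▸ le_sup_left
  have hRM : R ≤ M := hM ▸ le_sup_right
  have hcardQ : Nat.card (Q.subgroupOf M) = Nat.card Q :=
    Nat.card_congr (Subgroup.subgroupOfEquivOfLe hQM).toEquiv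
  obtain ⟨j, hj⟩ := IsPGroup.iff_card.1 hR
  have hidx : (Q.subgroupOf M).index ∣ p ^ j := by
    rw [← hj, ← Nat.card_congr (Subgroup.subgroupOfEquivOfLe hRM).toEquiv,
      ← Subgroup.relIndex_top_right]
    have htop : Q.subgroupOf M ⊔ R.subgroupOf M = ⊤ := by
      apply Subgroup.map_injective M.subtype_injective
      rw [Subgroup.map_sup, Subgroup.map_subgroupOf_eq_of_le hQM,
        Subgroup.map_subgroupOf_eq_of_le hRM, ← hM, ← MonoidHom.range_eq_map,
        Subgroup.range_subtype]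
    rw [← htop, sup_comm, Subgroup.relIndex_sup_right]
    exact Subgroup.relIndex_dvd_card _ _
  have hcop : Nat.Coprime (Nat.card (Q.subgroupOf M)) (Q.subgroupOf M).index := by
    rw [hcardQ]
    exact ((hp.coprime_iff_not_dvd.2 hQ).symm.pow_right j).coprime_dvd_right hidx
  haveI := Fintype.ofFinite M
  haveI := Fintype.ofFinite (Q.subgroupOf M)
  have hχM : Cfsg.IsCharacter M (fun x : M => χ x) := IsCharacter.restrict hχ M
  obtain ⟨Φ, hΦ, hΦN, hfix⟩ := exists_fixed_extension hcop n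
    (fun x : Q.subgroupOf M => χ ((x : M) : G)) (IsCharacter.restrict hχM _) (by simpa using hn)
    (fun g => funext fun x => by
      rw [conjOn_apply]
      exact (IsCharacter.isClassFunction hχM) (x : M) g)
  obtain ⟨ι, hι⟩ : ∃ ι : R →* M, ι = Subgroup.inclusion hRM := ⟨_, rfl⟩
  obtain ⟨φ, hφ⟩ : ∃ φ : R → ℂ, φ = fun r => Φ (ι r) := ⟨_, rfl⟩
  have hφc : Cfsg.IsCharacter R φ := hφ ▸ IsCharacter.comp hΦ ι
  have hΦ1 : Φ 1 = n := by
    have h1 := hΦN 1
    simp only [OneMemClass.coe_one] at h1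
    rw [h1, hn]
  obtain ⟨m, ρ, rfl⟩ := hΦ
  obtain ⟨ρR, hρR⟩ : ∃ ρR : R →* Module.End ℂ (Fin m → ℂ), ρR = MonoidHom.comp ρ ι := ⟨_, rfl⟩
  obtain ⟨K, hK⟩ : ∃ K, K = ρR.ker := ⟨_, rfl⟩
  haveI : K.Normal := hK ▸ MonoidHom.normal_ker _
  have hKC : K ≤ (Subgroup.centralizer (Q : Set G)).subgroupOf R := by
    intro r hr
    rw [hK, MonoidHom.mem_ker, hρR, MonoidHom.comp_apply] at hr
    rw [Subgroup.mem_subgroupOf, Subgroup.mem_centralizer_iff]
    intro q hq
    have hyQ : (r : G) * q * (r : G)⁻¹ * q⁻¹ ∈ Q :=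
      mul_mem ((Subgroup.mem_normalizer_iff.1 (hnorm r.2) q).1 hq) (inv_mem hq)
    have hρy : ρ (⟨(r : G) * q * (r : G)⁻¹ * q⁻¹, hQM hyQ⟩ : M) = 1 := by
      rw [show (⟨(r : G) * q * (r : G)⁻¹ * q⁻¹, hQM hyQ⟩ : M) =
        ι r * ⟨q, hQM hq⟩ * (ι r)⁻¹ * (⟨q, hQM hq⟩ : M)⁻¹ by rw [hι]; rfl]
      have hinv : ρ (ι r)⁻¹ = 1 := by
        have h2 : ρ (ι r * (ι r)⁻¹) = 1 := by rw [mul_inv_cancel, map_one]
        rwa [map_mul, hr, one_mul] at h2
      rw [map_mul, map_mul, map_mul, hr, one_mul, hinv, mul_one, ← map_mul, mul_inv_cancel,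
        map_one]
    have h4 : χ ((r : G) * q * (r : G)⁻¹ * q⁻¹) = χ 1 := by
      have h5 := hΦN ⟨⟨_, hQM hyQ⟩, Subgroup.mem_subgroupOf.2 hyQ⟩
      simp only at h5
      rw [← h5, hn, ← hΦ1]
      show LinearMap.trace ℂ _ (ρ _) = LinearMap.trace ℂ _ (ρ 1)
      rw [hρy, map_one ρ]
    have h6 := hfaith _ h4
    rw [mul_inv_eq_one, mul_inv_eq_iff_eq_mul] at h6
    exact h6.symm
  let ρbar : Representation ℂ (R ⧸ K) (Fin m → ℂ) :=
    QuotientGroup.lift K ρR (fun x hx => hK ▸ hx)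
  have hval : ∀ x : R, ρbar.character (x : R ⧸ K) = φ x := by
    intro x
    rw [hφ]
    simp only [Representation.character, ρbar]
    rw [show (QuotientGroup.lift K ρR (fun x hx => hK ▸ hx)) (x : R ⧸ K) = ρR x from
      QuotientGroup.lift_mk _ _ _, hρR, MonoidHom.comp_apply]
  have hfaith' : ∀ g, ρbar.character g = ρbar.character 1 → g = 1 := by
    intro g hg
    have h1 := apply_eq_one_of_character_eq ρbar (g := g) (by rwa [ρbar.char_one] at hg)
    induction g using QuotientGroup.induction_on with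
    | _ x =>
      rw [QuotientGroup.eq_one_iff, hK, MonoidHom.mem_ker]
      exact h1
  have hrat : ∀ (g : R ⧸ K) (t : ℕ), t.Coprime (Nat.card (R ⧸ K)) →
      ρbar.character (g ^ t) = ρbar.character g := by
    intro g t ht
    induction g using QuotientGroup.induction_on with
    | _ x =>
      rw [← QuotientGroup.mk_pow, hval, hval]
      by_cases hone : Nat.card (R ⧸ K) = 1
      · haveI : Subsingleton (R ⧸ K) := (Nat.card_eq_one_iff_unique.1 hone).1
        rw [← hval, ← hval, Subsingleton.elim ((x ^ t : R) : R ⧸ K) x]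
      have htp : ¬ p ∣ t := by
        obtain ⟨i, hi⟩ := IsPGroup.iff_card.1 (hR.to_quotient K)
        intro hdvd
        rw [hi] at ht hone
        rcases i with _ | i
        · exact hone (pow_zero p)
        · exact hp.ne_one (Nat.eq_one_of_dvd_coprimes ht hdvd (dvd_pow_self p i.succ_ne_zero))
      have hcop' : Nat.Coprime (p ^ j) (Nat.card Q) := (hp.coprime_iff_not_dvd.2 hQ).pow_left j
      obtain ⟨t', ht1, ht2⟩ : ∃ t', t' ≡ t [MOD p ^ j] ∧ t' ≡ 1 [MOD Nat.card Q] :=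
        ⟨_, (Nat.chineseRemainder hcop' t 1).2.1, (Nat.chineseRemainder hcop' t 1).2.2⟩
      have ht' : t'.Coprime (p ^ j * Nat.card Q) := by
        refine Nat.Coprime.mul_right ?_ ?_
        · refine Nat.Coprime.pow_right j ((hp.coprime_iff_not_dvd.2 fun h => ?_).symm)
          rcases Nat.eq_zero_or_pos j with hj0 | hj0
          · subst hj0
            haveI : Subsingleton R := (Nat.card_eq_one_iff_unique.1 (by rw [hj, pow_zero])).1
            haveI : Subsingleton (R ⧸ K) := Quotient.instSubsingletonQuotient _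
            exact hone (Nat.card_eq_one_iff_unique.2 ⟨inferInstance, inferInstance⟩)
          · exact htp ((Nat.ModEq.dvd_iff (ht1.of_dvd (dvd_pow_self p hj0.ne')) dvd_rfl).1 h)
        · rw [Nat.Coprime, ht2.gcd_eq]; exact Nat.coprime_one_left _
      have hcardM : Nat.card M ∣ p ^ j * Nat.card Q := by
        rw [← (Q.subgroupOf M).card_mul_index, hcardQ, mul_comm (p ^ j)]
        exact mul_dvd_mul_left _ hidx
      obtain ⟨σ, hσ⟩ := exists_ringEquiv_pow (n := p ^ j * Nat.card Q)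
        (Nat.mul_pos (pow_pos hp.pos j) Nat.card_pos) ht'
      have hσQ : FixesRoots (Nat.card (Q.subgroupOf M)) σ := by
        intro z hz
        rw [hcardQ] at hz
        rw [hσ z (by rw [mul_comm, pow_mul, hz, one_pow])]
        conv_rhs => rw [← pow_one z]
        exact pow_eq_pow_of_modEq ht2 hz
      have h8 := IsCharacter.map_eq_pow_card ⟨m, ρ, rfl⟩ σ (t := t')
        (fun z hz => hσ z (by
          obtain ⟨c, hc⟩ := hcardM
          rw [hc, pow_mul, hz, one_pow])) (ι x)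
      rw [hfix σ hσQ] at h8
      rw [hφ]
      simp only [map_pow]
      rw [h8]
      congr 1
      rw [← map_pow, ← map_pow]
      congr 1
      exact pow_eq_pow_iff_modEq.2 ((ht1.symm).of_dvd (hj ▸ orderOf_dvd_natCard x))
  have hbound := card_factorization_le hp (hR.to_quotient K) (isCharacter_character ρbar) hfaith'
    (n := n) (by rw [← QuotientGroup.mk_one, hval, hφ]; simpa using hΦ1) hrat
  refine le_trans ?_ hbound
  exact (Nat.factorization_le_iff_dvd Subgroup.index_ne_zero_of_finite Nat.card_pos.ne').2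
    (Subgroup.index_dvd_of_le hKC) p

end CfsgLib.LinearPBound
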