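import Cfsg.Agent.LinearPBound.Extend
import Cfsg.Agent.FGSA.AbelianSylowLength
import Cfsg.Agent.Solvable.Glauberman
import Cfsg.Agent.OneClass.Basic
import Mathlib.GroupTheory.SchurZassenhaus

/-!
# The p-part of a p-solvable linear group modulo its p-core
-/

set_option autoImplicit false
set_option linter.style.haveILetI false

namespace CfsgLib.LinearPBound

open Subgroup
open scoped Pointwise

universe u

variable {G : Type u} [Group G] [Finite G]

theorem exists_data (p : ℕ) [hp : Fact p.Prime] (hsolv : Cfsg.IsPSolvable p G) :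
    ∃ Q R : Subgroup G, ¬ p ∣ Nat.card Q ∧ IsPGroup p R ∧ R ≤ normalizer (Q : Set G) ∧
      (Cfsg.pCore p G).index.factorization p ≤
        ((centralizer (Q : Set G)).subgroupOf R).index.factorization p := by
  classical
  obtain ⟨O, hO⟩ : ∃ O, O = Cfsg.pCore p G := ⟨_, rfl⟩
  haveI hOn : O.Normal := hO ▸ (CfsgLib.Solvable.pCore_spec (G := G) (p := p)).1
  have hOp : IsPGroup p O := hO ▸ CfsgLib.Solvable.isPGroup_pCore p
  have hbot : Cfsg.pCore p (G ⧸ O) = ⊥ := by
    subst hO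
    exact CfsgLib.OneClass.pCore_quotient_pCore p
  have hsQ : Cfsg.IsPSolvable p (G ⧸ O) :=
    CfsgLib.PConstrained.isPSolvable_map (QuotientGroup.mk' O) (QuotientGroup.mk'_surjective O) hsolv
  have hCQ := CfsgLib.FGSA.AbelianSylow.centralizer_pPrimeCore_le hbot hsQ
  obtain ⟨P', hP'⟩ : ∃ P', P' = Cfsg.pPrimeCore p (G ⧸ O) := ⟨_, rfl⟩
  haveI hP'n : P'.Normal := hP' ▸ CfsgLib.Solvable.pPrimeCore_normal p
  obtain ⟨M, hM⟩ : ∃ M, M = P'.comap (QuotientGroup.mk' O) := ⟨_, rfl⟩
  haveI hMn : M.Normal := hM ▸ Subgroup.Normal.comap hP'n _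
  have hOM : O ≤ M := fun x hx => by
    rw [hM, mem_comap]
    rw [show QuotientGroup.mk' O x = 1 from (QuotientGroup.eq_one_iff x).2 hx]
    exact one_mem _
  obtain ⟨j, hj⟩ := IsPGroup.iff_card.1 hOp
  have hrel : O.relIndex M = Nat.card P' := by
    have e := Subgroup.relIndex_ker M (f := QuotientGroup.mk' O)
    rw [QuotientGroup.ker_mk'] at e
    rw [e, hM, map_comap_eq_self_of_surjective (QuotientGroup.mk'_surjective O)]
  have hP'p : ¬ p ∣ Nat.card P' := by
    rw [hP']
    exact (hp.out.coprime_iff_not_dvd).1 (CfsgLib.Solvable.coprime_card_pPrimeCore p).symm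
  have hcardO : Nat.card (O.subgroupOf M) = p ^ j := by
    rw [Nat.card_congr (subgroupOfEquivOfLe hOM).toEquiv, hj]
  have hidx : (O.subgroupOf M).index = Nat.card P' := hrel
  have hcopM : (Nat.card (O.subgroupOf M)).Coprime (O.subgroupOf M).index := by
    rw [hcardO, hidx]
    exact ((hp.out.coprime_iff_not_dvd).2 hP'p).pow_left j
  obtain ⟨Q₀, hQ₀⟩ := exists_right_complement'_of_coprime hcopM
  obtain ⟨Q, hQ⟩ : ∃ Q, Q = Q₀.map M.subtype := ⟨_, rfl⟩
  have hcardQ₀ : Nat.card Q₀ = Nat.card P' := by rw [← IsComplement'.index_eq_card hQ₀.symm, hidx]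
  have hcardQ : Nat.card Q = Nat.card P' := by
    rw [hQ, card_map_of_injective M.subtype_injective, hcardQ₀]
  have hsub : Q.subgroupOf M = Q₀ := by
    rw [hQ]; exact comap_map_eq_self_of_injective M.subtype_injective _
  -- Frattini
  have hfrat : ∀ g : G, ∃ o ∈ O, o * g ∈ normalizer (Q : Set G) := by
    intro g
    obtain ⟨Q₁, hQ₁⟩ : ∃ Q₁, Q₁ = Q.map (MulAut.conj g).toMonoidHom := ⟨_, rfl⟩
    have hQ₁M : Q₁ ≤ M := by
      rw [hQ₁, hQ]
      rintro _ ⟨x, ⟨y, -, rfl⟩, rfl⟩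
      exact hMn.conj_mem _ y.2 g
    have hcomp : IsComplement' (O.subgroupOf M) (Q₁.subgroupOf M) := by
      have h1 : Nat.card (Q₁.subgroupOf M) = Nat.card P' := by
        rw [Nat.card_congr (subgroupOfEquivOfLe hQ₁M).toEquiv, hQ₁,
          card_map_of_injective (MulAut.conj g).injective, hcardQ]
      refine isComplement'_of_coprime ?_ ?_
      · rw [h1, ← hidx]; exact (O.subgroupOf M).card_mul_index
      · rw [h1, hcardO]; exact ((hp.out.coprime_iff_not_dvd).2 hP'p).pow_left j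
    have hsolO : Group.IsSolvable (O.subgroupOf M) := by
      haveI : Group.IsNilpotent O := hOp.isNilpotent
      haveI : Group.IsSolvable O := inferInstance
      exact Group.isSolvable_of_isSolvable_injective
        (f := (subgroupOfEquivOfLe hOM).toMonoidHom) (subgroupOfEquivOfLe hOM).injective
    obtain ⟨x, hx, hconj⟩ := CfsgLib.SZ.conj_of_solvable (O.subgroupOf M) hcopM (Or.inl hsolO)
      Q₀ (Q₁.subgroupOf M) hQ₀ hcomp
    refine ⟨(x : G)⁻¹, inv_mem (mem_subgroupOf.1 hx), ?_⟩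
    have hmap : Q.map (MulAut.conj (x : G)).toMonoidHom = Q₁ := by
      have h2 := congrArg (Subgroup.map M.subtype) hconj
      rw [map_subgroupOf_eq_of_le hQ₁M] at h2
      rw [← h2, hQ]
      ext z
      simp only [mem_map, Subgroup.mem_smul_pointwise_iff_exists, MulEquiv.coe_toMonoidHom,
        MulAut.smul_def]
      constructor
      · rintro ⟨_, ⟨y, hy, rfl⟩, rfl⟩
        exact ⟨_, ⟨y, hy, rfl⟩, by simp⟩
      · rintro ⟨_, ⟨y, hy, rfl⟩, rfl⟩
        exact ⟨_, ⟨y, hy, rfl⟩, by simp⟩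
    rw [mem_normalizer_iff]
    intro q
    have e1 : ∀ (g : G) (q : G), q ∈ Q ↔ g * q * g⁻¹ ∈ Q.map (MulAut.conj g).toMonoidHom := by
      intro g q
      rw [mem_map]
      constructor
      · intro h; exact ⟨q, h, by simp⟩
      · rintro ⟨y, hy, hyq⟩
        simp only [MulEquiv.coe_toMonoidHom, MulAut.conj_apply, mul_left_inj, mul_right_inj] at hyq
        rwa [← hyq]
    rw [e1 g q, ← hQ₁, ← hmap]
    have e2 := (e1 (x : G) ((x : G)⁻¹ * g * q * ((x : G)⁻¹ * g)⁻¹)).symm
    rw [show (x : G) * ((x : G)⁻¹ * g * q * ((x : G)⁻¹ * g)⁻¹) * (x : G)⁻¹ = g * q * g⁻¹ by group]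
      at e2
    exact e2
  obtain ⟨N, hN⟩ : ∃ N, N = normalizer (Q : Set G) := ⟨_, rfl⟩
  obtain ⟨R₀⟩ := (inferInstance : Nonempty (Sylow p N))
  obtain ⟨R, hR⟩ : ∃ R, R = (R₀ : Subgroup N).map N.subtype := ⟨_, rfl⟩
  have hRN : R ≤ N := hR ▸ map_subtype_le _
  have hRp : IsPGroup p R := hR ▸ R₀.2.map _
  refine ⟨Q, R, hcardQ ▸ hP'p, hRp, hN ▸ hRN, ?_⟩
  -- centralising elements lie in the core
  have hC : ∀ r ∈ R, r ∈ centralizer (Q : Set G) → r ∈ O := by
    intro r hr hrc
    have h1 : QuotientGroup.mk' O r ∈ centralizer (P' : Set (G ⧸ O)) := by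
      rw [mem_centralizer_iff]
      intro z hz
      obtain ⟨y, rfl⟩ := QuotientGroup.mk'_surjective O z
      have hyM : y ∈ M := by rw [hM, mem_comap]; exact hz
      obtain ⟨⟨⟨a, ha⟩, ⟨b, hb⟩⟩, hab⟩ := hQ₀.2 ⟨y, hyM⟩
      have hbQ : (b : G) ∈ Q := hQ ▸ mem_map_of_mem _ hb
      have hyab : (a : G) * (b : G) = y := congrArg Subtype.val hab
      have hab' : QuotientGroup.mk' O y = QuotientGroup.mk' O (b : G) := by
        rw [← hyab, map_mul, show QuotientGroup.mk' O (a : G) = 1 from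
          (QuotientGroup.eq_one_iff _).2 (mem_subgroupOf.1 ha), one_mul]
      rw [hab', ← map_mul, ← map_mul, mem_centralizer_iff.1 hrc (b : G) hbQ]
    rw [hP'] at h1
    have h2 := hCQ h1
    rw [← hP'] at h2
    rw [← QuotientGroup.eq_one_iff]
    obtain ⟨k, hk⟩ := hRp ⟨r, hr⟩
    have h3 : (QuotientGroup.mk' O r) ^ p ^ k = 1 := by
      rw [← map_pow, show r ^ p ^ k = 1 from congrArg Subtype.val hk, map_one]
    have h4 : (⟨_, h2⟩ : P') ^ p ^ k = 1 := Subtype.ext h3
    have h5 : orderOf (⟨_, h2⟩ : P') = 1 := Nat.eq_one_of_dvd_coprimes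
      (((hp.out.coprime_iff_not_dvd).2 hP'p).pow_left k) (orderOf_dvd_of_pow_eq_one h4)
      (orderOf_dvd_natCard _)
    exact congrArg Subtype.val (orderOf_eq_one_iff.1 h5)
  have hle : (centralizer (Q : Set G)).subgroupOf R ≤ O.subgroupOf R := fun r hr =>
    mem_subgroupOf.2 (hC r r.2 (mem_subgroupOf.1 hr))
  have htop : N ⊔ O = ⊤ := eq_top_iff.2 fun g _ => by
    obtain ⟨o, ho, h⟩ := hfrat g
    rw [← inv_mul_cancel_left o g]
    exact mul_mem (mem_sup_right (inv_mem ho)) (mem_sup_left (hN ▸ h))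
  have hidxO : O.index = O.relIndex N := by
    rw [← relIndex_top_right, ← htop, Subgroup.relIndex_sup_right]
  haveI : (O.subgroupOf N).Normal := inferInstance
  have hONp : IsPGroup p (O.subgroupOf N) := hOp.comap_subtype
  have hONR : O.subgroupOf N ≤ (R₀ : Subgroup N) := hONp.le_sylow_of_normal R₀
  have h6 : (O.relIndex N).factorization p = (O.relIndex R).factorization p := by
    have h7 : O.relIndex R = (O.subgroupOf N).relIndex (R₀ : Subgroup N) := by
      rw [← Subgroup.relIndex_subgroupOf hRN]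
      congr 1
      rw [hR]; exact comap_map_eq_self_of_injective N.subtype_injective _
    have h8 := Subgroup.relIndex_mul_index hONR
    rw [h7, show O.relIndex N = (O.subgroupOf N).index from rfl, ← h8,
      Nat.factorization_mul (show (O.subgroupOf N).relIndex (R₀ : Subgroup N) ≠ 0 from
        Subgroup.index_ne_zero_of_finite) Subgroup.index_ne_zero_of_finite,
      Finsupp.add_apply, Nat.factorization_eq_zero_of_not_dvd R₀.not_dvd_index, Nat.add_zero]
  rw [← hO, hidxO, h6]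
  exact (Nat.factorization_le_iff_dvd Subgroup.index_ne_zero_of_finite
    Subgroup.index_ne_zero_of_finite).2 (Subgroup.index_dvd_of_le hle) p

/-- **The p-part of a p-solvable linear group.** -/
theorem index_pCore_le (χ : G → ℂ) (hχ : Cfsg.IsCharacter G χ)
    (hfaith : ∀ g : G, χ g = χ 1 → g = 1) {n : ℕ} (hn : χ 1 = n) (p : ℕ) (hp : p.Prime)
    (hsolv : Cfsg.IsPSolvable p G) :
    ((Cfsg.pCore p G).index).factorization p ≤
      ∑ i ∈ Finset.range (n + 1), n / ((p - 1) * p ^ i) := by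
  haveI := Fact.mk hp
  obtain ⟨Q, R, hQ, hR, hnorm, hle⟩ := exists_data p hsolv
  exact hle.trans (index_centralizer_le hχ hfaith hn hp hQ hR hnorm)

end CfsgLib.LinearPBound
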